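import Groth.Agent.EtBCA.Der.Unit
import Groth.Agent.EtBCA.BCQ.Main
import Groth.Agent.TriCat.MapExtend
import Mathlib.Algebra.Homology.DerivedCategory.KInjective
import Mathlib.CategoryTheory.Abelian.Injective.Extend
import Mathlib.CategoryTheory.Comma.Arrow
import Mathlib.CategoryTheory.Adjunction.Unique

/-!
# The derived base change morphism on a single object, computed on injective resolutions
-/

set_option autoImplicit false
set_option linter.style.haveILetI false
set_option backward.isDefEq.respectTransparency false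

universe w₁ w₂ w₃ w₄ v₁ v₂ v₃ v₄ u₁ u₂ u₃ u₄

open CategoryTheory CategoryTheory.Limits HomologicalComplex

noncomputable section

namespace Groth.Agent.EtBCA.Der

section Extend

variable {ι ι' : Type*} {c : ComplexShape ι} {c' : ComplexShape ι'}
  {A B C D : Type*} [Category A] [Category B] [Category C] [Category D]
  [Preadditive A] [Preadditive B] [Preadditive C] [Preadditive D]
  [HasZeroObject A] [HasZeroObject B] [HasZeroObject C] [HasZeroObject D]
  {Φ : A ⥤ C} [Φ.Additive] {Ψ : B ⥤ D} [Ψ.Additive]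
  {E : A ⥤ B} [E.Additive] {G : C ⥤ D} [G.Additive]
  (β : Φ ⋙ G ⟶ E ⋙ Ψ)

/-- a natural map applied termwise, for any shape -/
def natMapC (c : ComplexShape ι) (K : HomologicalComplex A c) :
    (G.mapHomologicalComplex c).obj ((Φ.mapHomologicalComplex c).obj K) ⟶
      (Ψ.mapHomologicalComplex c).obj ((E.mapHomologicalComplex c).obj K) where
  f n := β.app (K.X n)
  comm' i j _ := (β.naturality (K.d i j)).symm

/-- extension commutes with termwise application -/
theorem natMapC_extend (e : c.Embedding c') (K : HomologicalComplex A c) :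
    natMapC β c' (K.extend e) ≫ (Ψ.mapHomologicalComplex c').map (TriCat.mapExtendIso E e K).hom ≫
        (TriCat.mapExtendIso Ψ e _).hom =
      (G.mapHomologicalComplex c').map (TriCat.mapExtendIso Φ e K).hom ≫
        (TriCat.mapExtendIso G e _).hom ≫ extendMap (natMapC β c K) e := by
  ext i'
  show β.app (extend.X K (e.r i')) ≫ Ψ.map (TriCat.mapExtendXIso E K (e.r i')).hom ≫
      (TriCat.mapExtendXIso Ψ ((E.mapHomologicalComplex c).obj K) (e.r i')).hom =
    G.map (TriCat.mapExtendXIso Φ K (e.r i')).hom ≫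
      (TriCat.mapExtendXIso G ((Φ.mapHomologicalComplex c).obj K) (e.r i')).hom ≫
        extend.mapX (natMapC β c K) (e.r i')
  generalize e.r i' = o
  cases o with
  | none => exact (extend.isZero_X _ rfl).eq_of_tgt _ _
  | some i =>
    show β.app (K.X i) ≫ Ψ.map (𝟙 _) ≫ 𝟙 _ = G.map (𝟙 _) ≫ 𝟙 _ ≫ β.app (K.X i)
    simp

end Extend

variable {A : Type u₁} [Category.{v₁} A] [Abelian A] [HasDerivedCategory.{w₁} A]
  {B : Type u₂} [Category.{v₂} B] [Abelian B] [HasDerivedCategory.{w₂} B]
  {C : Type u₃} [Category.{v₃} C] [Abelian C] [HasDerivedCategory.{w₃} C]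
  {D : Type u₄} [Category.{v₄} D] [Abelian D] [HasDerivedCategory.{w₄} D]
  {Φ : A ⥤ C} [Φ.Additive] {Ψ : B ⥤ D} [Ψ.Additive]
  {E : A ⥤ B} [E.Additive] [PreservesFiniteLimits E] [PreservesFiniteColimits E]
  {G : C ⥤ D} [G.Additive] [PreservesFiniteLimits G] [PreservesFiniteColimits G]
  {U : D ⥤ C} [U.Additive]

local notation "HC" => ComplexShape.up ℤ

variable {RΦ : DerivedCategory A ⥤ DerivedCategory C}
  (uΦ : Φ.mapHomotopyCategory HC ⋙ DerivedCategory.Qh ⟶ DerivedCategory.Qh ⋙ RΦ)
  {RΨ : DerivedCategory B ⥤ DerivedCategory D}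
  (uΨ : Ψ.mapHomotopyCategory HC ⋙ DerivedCategory.Qh ⟶ DerivedCategory.Qh ⋙ RΨ)
  {RU : DerivedCategory D ⥤ DerivedCategory C}
  (uU : U.mapHomotopyCategory HC ⋙ DerivedCategory.Qh ⟶ DerivedCategory.Qh ⋙ RU)

/-- the map from which the base change morphism is derived -/
def unitBC (pp : Φ ⟶ E ⋙ Ψ ⋙ U) :
    Φ.mapHomotopyCategory HC ⋙ DerivedCategory.Qh ⟶
      DerivedCategory.Qh ⋙ (E.mapDerivedCategory ⋙ RΨ ⋙ RU) :=
  Functor.whiskerRight (NatTrans.mapHomotopyCategory pp HC ≫
      (Functor.mapHomotopyCategoryCompIso (Iso.refl (E ⋙ (Ψ ⋙ U))) HC).inv ≫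
      Functor.whiskerLeft (E.mapHomotopyCategory HC)
        (Functor.mapHomotopyCategoryCompIso (Iso.refl (Ψ ⋙ U)) HC).inv) DerivedCategory.Qh ≫
    (Functor.associator _ _ _).hom ≫
    Functor.whiskerLeft (E.mapHomotopyCategory HC)
      ((Functor.associator _ _ _).hom ≫
        Functor.whiskerLeft (Ψ.mapHomotopyCategory HC) uU ≫
        (Functor.associator _ _ _).inv ≫
        Functor.whiskerRight uΨ RU ≫
        (Functor.associator _ _ _).hom) ≫
    (Functor.associator _ _ _).inv ≫
    Functor.whiskerRight E.mapDerivedCategoryFactorsh.inv (RΨ ⋙ RU) ≫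
    (Functor.associator _ _ _).hom

theorem unitBC_app (pp : Φ ⟶ E ⋙ Ψ ⋙ U) (I : CochainComplex A ℤ) :
    (unitBC uΨ uU pp).app ((HomotopyCategory.quotient A HC).obj I) =
      DerivedCategory.Qh.map ((HomotopyCategory.quotient C HC).map
        ({ f := fun n => pp.app (I.X n), comm' := fun i j _ => (pp.naturality (I.d i j)).symm } :
          (Φ.mapHomologicalComplex HC).obj I ⟶
            (U.mapHomologicalComplex HC).obj ((Ψ.mapHomologicalComplex HC).obj
              ((E.mapHomologicalComplex HC).obj I)))) ≫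
        uU.app _ ≫ RU.map (uΨ.app _ ≫ RΨ.map (E.mapDerivedCategoryFactorsh.inv.app _)) := by
  simp only [unitBC, NatTrans.comp_app, Functor.whiskerLeft_app, Functor.whiskerRight_app,
    Functor.associator_hom_app, Functor.associator_inv_app, Category.id_comp, Functor.comp_map,
    Category.assoc]
  erw [Category.comp_id]
  refine congrArg₂ (· ≫ ·) (congrArg _ ?_) ?_
  · simp [NatTrans.mapHomotopyCategory, Functor.mapHomotopyCategoryCompIso,
      Functor.mapHomotopyCategory, HomotopyCategory.quotient]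
    refine ((Functor.map_comp _ _ _).symm.trans (congrArg _ ?_))
    ext n
    exact Category.comp_id _
  · simp only [Functor.map_comp, Category.assoc]
    exact congrArg (_ ≫ ·) (congrArg (_ ≫ ·) (Category.comp_id _))

variable [RΦ.IsRightDerivedFunctor uΦ (HomotopyCategory.quasiIso A HC)]
  [RΨ.IsRightDerivedFunctor uΨ (HomotopyCategory.quasiIso B HC)]
  [RU.IsRightDerivedFunctor uU (HomotopyCategory.quasiIso D HC)]

/-- the base change morphism of derived functors -/
def bcDer (pp : Φ ⟶ E ⋙ Ψ ⋙ U) (adj' : G.mapDerivedCategory ⊣ RU) (X : DerivedCategory A) :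
    G.mapDerivedCategory.obj (RΦ.obj X) ⟶ RΨ.obj (E.mapDerivedCategory.obj X) :=
  (adj'.homEquiv _ _).symm ((RΦ.rightDerivedDesc uΦ (HomotopyCategory.quasiIso A HC)
    (E.mapDerivedCategory ⋙ RΨ ⋙ RU) (unitBC uΨ uU pp)).app X)

theorem bcDer_natural (pp : Φ ⟶ E ⋙ Ψ ⋙ U) (adj' : G.mapDerivedCategory ⊣ RU) {X Y : DerivedCategory A}
    (f : X ⟶ Y) :
    G.mapDerivedCategory.map (RΦ.map f) ≫ bcDer uΦ uΨ uU pp adj' Y =
      bcDer uΦ uΨ uU pp adj' X ≫ RΨ.map (E.mapDerivedCategory.map f) := by
  dsimp only [bcDer]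
  rw [← Adjunction.homEquiv_naturality_left_symm, ← Adjunction.homEquiv_naturality_right_symm]
  exact congrArg (adj'.homEquiv _ _).symm
    ((RΦ.rightDerivedDesc uΦ (HomotopyCategory.quasiIso A HC) _ (unitBC uΨ uU pp)).naturality f)

theorem bcDer_adj (pp : Φ ⟶ E ⋙ Ψ ⋙ U) (a₁ a₂ : G.mapDerivedCategory ⊣ RU) (X : DerivedCategory A) :
    bcDer uΦ uΨ uU pp a₁ X = (a₁.leftAdjointUniq a₂).hom.app _ ≫ bcDer uΦ uΨ uU pp a₂ X := by
  apply (a₁.homEquiv _ _).injective
  rw [a₁.homEquiv_naturality_right, Adjunction.homEquiv_leftAdjointUniq_hom_app, bcDer, bcDer,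
    Equiv.apply_symm_apply]
  exact ((a₂.homEquiv _ _).apply_symm_apply _).symm.trans (Adjunction.homEquiv_unit a₂ _ _ _)

variable (adj : G ⊣ U) {adj₀ : G.mapDerivedCategory ⊣ RU}
  (hadj₀ : ∀ K : HomotopyCategory D HC,
    G.mapDerivedCategory.map (uU.app K) ≫ adj₀.counit.app (DerivedCategory.Qh.obj K) =
      G.mapDerivedCategoryFactorsh.hom.app _ ≫
        DerivedCategory.Qh.map ((adjHtpy HC adj).counit.app K))
  (pp : Φ ⟶ E ⋙ Ψ ⋙ U) (β : Φ ⋙ G ⟶ E ⋙ Ψ) (hβ : ∀ X, (adj.homEquiv _ _).symm (pp.app X) = β.app X)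

include hadj₀ hβ in
/-- the base change morphism precomposed with the unit, at a complex -/
theorem unit_bcDer (I : CochainComplex A ℤ) :
    G.mapDerivedCategory.map (uΦ.app ((HomotopyCategory.quotient A HC).obj I)) ≫
        bcDer uΦ uΨ uU pp adj₀ (DerivedCategory.Qh.obj ((HomotopyCategory.quotient A HC).obj I)) =
      G.mapDerivedCategoryFactorsh.hom.app _ ≫
        DerivedCategory.Qh.map ((HomotopyCategory.quotient D HC).map (natMapC β HC I)) ≫
          uΨ.app _ ≫ RΨ.map (E.mapDerivedCategoryFactorsh.inv.app _) := by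
  dsimp only [bcDer]
  refine ((Adjunction.homEquiv_naturality_left_symm adj₀ _ _).symm.trans (congrArg (adj₀.homEquiv _ _).symm
    ((Functor.rightDerived_fac_app RΦ uΦ _ _ (unitBC uΨ uU pp) _).trans (unitBC_app uΨ uU pp I)))).trans ?_
  rw [Adjunction.homEquiv_counit, Functor.map_comp, Functor.map_comp, Category.assoc, Category.assoc]
  let K := (HomotopyCategory.quotient A HC).obj I
  let M := (Ψ.mapHomotopyCategory HC).obj ((E.mapHomotopyCategory HC).obj K)
  let u := uΨ.app ((E.mapHomotopyCategory HC).obj K) ≫ RΨ.map (E.mapDerivedCategoryFactorsh.inv.app K)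
  let P : (Φ.mapHomologicalComplex HC).obj I ⟶
      (U.mapHomologicalComplex HC).obj ((Ψ.mapHomologicalComplex HC).obj
        ((E.mapHomologicalComplex HC).obj I)) :=
    { f := fun n => pp.app (I.X n), comm' := fun i j _ => (pp.naturality (I.d i j)).symm }
  let p := (HomotopyCategory.quotient C HC).map P
  have e1 : G.mapDerivedCategory.map (RU.map u) ≫ adj₀.counit.app _ = adj₀.counit.app _ ≫ u :=
    adj₀.counit.naturality u
  refine (congrArg (_ ≫ ·) (congrArg (_ ≫ ·) e1)).trans ?_
  refine (congrArg (_ ≫ ·) ((Category.assoc _ _ _).symm.trans (congrArg (· ≫ u) (hadj₀ M)))).trans ?_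
  have e2 : G.mapDerivedCategory.map (DerivedCategory.Qh.map p) ≫
      G.mapDerivedCategoryFactorsh.hom.app _ =
      G.mapDerivedCategoryFactorsh.hom.app _ ≫
        DerivedCategory.Qh.map ((G.mapHomotopyCategory HC).map p) :=
    G.mapDerivedCategoryFactorsh.hom.naturality p
  have e3 : (G.mapHomotopyCategory HC).map p ≫ (adjHtpy HC adj).counit.app M =
      (HomotopyCategory.quotient D HC).map (natMapC β HC I) := by
    let N := (Ψ.mapHomologicalComplex HC).obj ((E.mapHomologicalComplex HC).obj I)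
    let c : (G.mapHomologicalComplex HC).obj ((U.mapHomologicalComplex HC).obj N) ⟶ N :=
      { f := fun i => adj.counit.app (N.X i), comm' := fun i j _ => (adj.counit.naturality (N.d i j)).symm }
    refine ((HomotopyCategory.quotient D HC).map_comp ((G.mapHomologicalComplex HC).map P) c).symm.trans
      (congrArg _ ?_)
    ext n
    exact (Adjunction.homEquiv_counit adj _ _ _).symm.trans (hβ (I.X n))
  rw [Category.assoc]
  refine (Category.assoc _ _ _).symm.trans ((congrArg (· ≫ _) e2).trans ((Category.assoc _ _ _).trans ?_))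
  refine congrArg (_ ≫ ·) ((Category.assoc _ _ _).symm.trans (congrArg (· ≫ u) ?_))
  exact (DerivedCategory.Qh.map_comp _ _).symm.trans (congrArg _ e3)

end Groth.Agent.EtBCA.Der
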