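import Groth.Agent.EtBCA.Der.OnRes
import Groth.Agent.EtBCA.BCQ.Etale
import Groth.Agent.TriCat.KInjRes
import Groth.Prelude.Def_EtBCD

/-!
# The cohomology sheaves of `EtBC.bcMap` on a single sheaf are the maps `EtBC.bcQ`
-/

set_option autoImplicit false
set_option linter.style.haveILetI false

universe u

open CategoryTheory CategoryTheory.Limits AlgebraicGeometry HomologicalComplex

attribute [local instance] HasDerivedCategory.standard

noncomputable section

namespace Groth.Agent.EtBCA.Der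

set_option backward.isDefEq.respectTransparency.types false

attribute [local instance] BCQ.pullAdditive BCQ.pullColimits

theorem hasKInj (X : Scheme.{u}) : HasKInj (EtCoh.Ab X) := fun K =>
  let ⟨I, f, hI, hf, _⟩ := TriCat.exists_kInjective_resolution'.{u + 1} K
  ⟨I, f, hI, hf⟩

variable {X S X' S' : Scheme.{u}} (f : X ⟶ S) (g : S' ⟶ S) (f' : X' ⟶ S') (g' : X' ⟶ X)
  (w : g' ≫ f = f' ≫ g) [PreservesFiniteLimits (EtCoh.pull g)] [PreservesFiniteLimits (EtCoh.pull g')]

theorem pushToPushPull_symm (F : EtCoh.Ab X) :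
    ((EtCoh.pullPushAdj g).homEquiv _ _).symm ((EtBC.pushToPushPull f g f' g' w).app F) =
      (BCQ.beta f g f' g' w).app F := by
  rw [BCQ.beta_app]
  refine congrArg ((EtCoh.pullPushAdj g).homEquiv _ _).symm ?_
  simp only [EtBC.pushToPushPull, NatTrans.comp_app, Functor.whiskerRight_app, Functor.whiskerLeft_app,
    Functor.leftUnitor_inv_app, Functor.associator_hom_app, Category.id_comp]

variable [DCoh.HasRpushEt X f] [DCoh.HasRpushEt X' f'] [DCoh.HasRpushEt S' g]
  (adj : EtBC.pullD g ⊣ DCoh.RpushEt S' g) (F : EtCoh.Ab X)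

/-- `H^n` of the derived base change morphism, computed on resolutions -/
theorem arrow_bcMap (R : InjectiveResolution F) (T : InjectiveResolution ((EtCoh.pull g').obj F))
    (d : ((EtCoh.pull g').mapHomologicalComplex _).obj R.cocomplex ⟶ T.cocomplex)
    (hd : BCQ.IsLift R T d) (n : ℤ) :
    Nonempty (Arrow.mk ((DerivedCategory.homologyFunctor (EtCoh.Ab S') n).map
        (EtBC.bcMap f g f' g' w adj (EtBC.single X F))) ≅
      Arrow.mk (homologyMap (extendMap (BCQ.natMap (BCQ.beta f g f' g' w) R.cocomplex ≫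
        ((EtCoh.push f').mapHomologicalComplex _).map d) ComplexShape.embeddingUpNat) n)) :=
  arrow_bcDer (Φ := EtCoh.push f) (Ψ := EtCoh.push f') (E := EtCoh.pull g') (G := EtCoh.pull g)
    (U := EtCoh.push g)
    ((DCoh.pushEtKh X f).totalRightDerivedUnit DerivedCategory.Qh
      (HomotopyCategory.quasiIso (EtCoh.Ab X) (ComplexShape.up ℤ)))
    ((DCoh.pushEtKh X' f').totalRightDerivedUnit DerivedCategory.Qh
      (HomotopyCategory.quasiIso (EtCoh.Ab X') (ComplexShape.up ℤ)))
    ((DCoh.pushEtKh S' g).totalRightDerivedUnit DerivedCategory.Qh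
      (HomotopyCategory.quasiIso (EtCoh.Ab S') (ComplexShape.up ℤ)))
    (EtCoh.pullPushAdj g) (EtBC.pushToPushPull f g f' g' w) (BCQ.beta f g f' g' w)
    (hasKInj X) (hasKInj X') (hasKInj S') (pushToPushPull_symm f g f' g' w) adj R T d hd n

/-- the comparison with `bcQ` -/
theorem arrow_bcMap_bcQ (q : ℕ) :
    Nonempty (Arrow.mk ((DerivedCategory.homologyFunctor (EtCoh.Ab S') (q : ℤ)).map
        (EtBC.bcMap f g f' g' w adj (EtBC.single X F))) ≅
      Arrow.mk (EtBC.bcQ f g f' g' w q F)) := by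
  let R := injectiveResolution F
  let T := injectiveResolution ((EtCoh.pull g').obj F)
  obtain ⟨d, hd⟩ := BCQ.exists_lift (E := EtCoh.pull g') R T
  refine arrow_trans (arrow_bcMap f g f' g' w adj F R T d hd q) ?_
  let m := BCQ.natMap (BCQ.beta f g f' g' w) R.cocomplex ≫
    ((EtCoh.push f').mapHomologicalComplex _).map d
  refine arrow_trans (arrow_sq (HomologicalComplex.extendHomologyIso _ ComplexShape.embeddingUpNat
      (j := q) (j' := (q : ℤ)) rfl).hom _ (homologyMap m q)
    (HomologicalComplex.extendHomologyIso _ ComplexShape.embeddingUpNat (j := q) (j' := (q : ℤ)) rfl).hom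
    (HomologicalComplex.extendHomologyIso_hom_naturality m ComplexShape.embeddingUpNat rfl)) ?_
  rw [BCQ.bcQ_eq, BCQ.bc_eq (BCQ.beta f g f' g' w) q R T d hd]
  exact ⟨(arrow_sq ((EtCoh.pull g).map (R.isoRightDerivedObj (EtCoh.push f) q).hom ≫
      (BCQ.hIso (EtCoh.pull g) _ q).inv) (BCQ.form (BCQ.beta f g f' g' w) q R T d) (homologyMap m q)
    (T.isoRightDerivedObj (EtCoh.push f') q).hom (by
      dsimp only [BCQ.form]
      simp only [Category.assoc, Iso.inv_hom_id, Category.comp_id]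
      rfl)).some.symm⟩

theorem isIso_bcMap_iff (q : ℕ) :
    IsIso ((DerivedCategory.homologyFunctor (EtCoh.Ab S') (q : ℤ)).map
        (EtBC.bcMap f g f' g' w adj (EtBC.single X F))) ↔ IsIso (EtBC.bcQ f g f' g' w q F) :=
  (MorphismProperty.isomorphisms (EtCoh.Ab S')).arrow_mk_iso_iff (arrow_bcMap_bcQ f g f' g' w adj F q).some

theorem mono_bcMap_iff (q : ℕ) :
    Mono ((DerivedCategory.homologyFunctor (EtCoh.Ab S') (q : ℤ)).map
        (EtBC.bcMap f g f' g' w adj (EtBC.single X F))) ↔ Mono (EtBC.bcQ f g f' g' w q F) :=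
  (MorphismProperty.monomorphisms (EtCoh.Ab S')).arrow_mk_iso_iff (arrow_bcMap_bcQ f g f' g' w adj F q).some

theorem isIso_bcMap_neg (n : ℤ) (hn : n < 0) :
    IsIso ((DerivedCategory.homologyFunctor (EtCoh.Ab S') n).map
        (EtBC.bcMap f g f' g' w adj (EtBC.single X F))) := by
  let R := injectiveResolution F
  let T := injectiveResolution ((EtCoh.pull g').obj F)
  obtain ⟨d, hd⟩ := BCQ.exists_lift (E := EtCoh.pull g') R T
  refine ((MorphismProperty.isomorphisms (EtCoh.Ab S')).arrow_mk_iso_iff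
    (arrow_bcMap f g f' g' w adj F R T d hd n).some).2 ?_
  rw [MorphismProperty.isomorphisms.iff]
  have hz : ∀ K : CochainComplex (EtCoh.Ab S') ℕ, IsZero ((K.extend ComplexShape.embeddingUpNat).homology n) :=
    fun K => HomologicalComplex.ExactAt.isZero_homology
      (HomologicalComplex.extend_exactAt _ _ _ (fun j hj => by simp at hj; omega))
  exact ⟨⟨0, (hz _).eq_of_src _ _, (hz _).eq_of_src _ _⟩⟩

/-- the criterion on K-injective complexes -/
theorem isIso_bcMap_iff_quasiIso {K : DCoh.DEt X} (I : CochainComplex (EtCoh.Ab X) ℤ) [I.IsKInjective]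
    (t : K ≅ DerivedCategory.Qh.obj ((HomotopyCategory.quotient (EtCoh.Ab X) (ComplexShape.up ℤ)).obj I))
    (J : CochainComplex (EtCoh.Ab X') ℤ) [J.IsKInjective]
    (dZ : ((EtCoh.pull g').mapHomologicalComplex (ComplexShape.up ℤ)).obj I ⟶ J) [QuasiIso dZ] :
    IsIso (EtBC.bcMap f g f' g' w adj K) ↔
      QuasiIso (natMapC (BCQ.beta f g f' g' w) (ComplexShape.up ℤ) I ≫
        ((EtCoh.push f').mapHomologicalComplex (ComplexShape.up ℤ)).map dZ) :=
  isIso_bcDer_iff (Φ := EtCoh.push f) (Ψ := EtCoh.push f') (E := EtCoh.pull g') (G := EtCoh.pull g)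
    (U := EtCoh.push g)
    ((DCoh.pushEtKh X f).totalRightDerivedUnit DerivedCategory.Qh
      (HomotopyCategory.quasiIso (EtCoh.Ab X) (ComplexShape.up ℤ)))
    ((DCoh.pushEtKh X' f').totalRightDerivedUnit DerivedCategory.Qh
      (HomotopyCategory.quasiIso (EtCoh.Ab X') (ComplexShape.up ℤ)))
    ((DCoh.pushEtKh S' g).totalRightDerivedUnit DerivedCategory.Qh
      (HomotopyCategory.quasiIso (EtCoh.Ab S') (ComplexShape.up ℤ)))
    (EtCoh.pullPushAdj g) (EtBC.pushToPushPull f g f' g' w) (BCQ.beta f g f' g' w)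
    (hasKInj X) (hasKInj X') (hasKInj S') (pushToPushPull_symm f g f' g' w) adj I t J dZ

/-- isomorphisms in all degrees up to a bound, from the same for `bcQ` -/
theorem isIso_bcMap_of_le (m : ℤ) (h : ∀ q : ℕ, (q : ℤ) ≤ m → IsIso (EtBC.bcQ f g f' g' w q F)) (n : ℤ)
    (hn : n ≤ m) :
    IsIso ((DerivedCategory.homologyFunctor (EtCoh.Ab S') n).map
        (EtBC.bcMap f g f' g' w adj (EtBC.single X F))) := by
  rcases lt_or_ge n 0 with h0 | h0
  · exact isIso_bcMap_neg f g f' g' w adj F n h0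
  · obtain ⟨q, rfl⟩ := Int.eq_ofNat_of_zero_le h0
    exact (isIso_bcMap_iff f g f' g' w adj F q).2 (h q hn)

end Groth.Agent.EtBCA.Der
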