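import Groth.Agent.EtBCA.Der.Abstract

/-!
# Composing base change maps of complexes along the base
-/

set_option autoImplicit false
set_option linter.style.haveILetI false
set_option backward.isDefEq.respectTransparency false

universe v₁ v₂ v₃ v₄ v₅ v₆ u₁ u₂ u₃ u₄ u₅ u₆

open CategoryTheory CategoryTheory.Limits HomologicalComplex

noncomputable section

namespace Groth.Agent.EtBCA.Der

variable {A : Type u₁} [Category.{v₁} A] [Abelian A]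
  {B : Type u₂} [Category.{v₂} B] [Abelian B]
  {B₂ : Type u₅} [Category.{v₅} B₂] [Abelian B₂]
  {C : Type u₃} [Category.{v₃} C] [Abelian C]
  {D : Type u₄} [Category.{v₄} D] [Abelian D]
  {D₂ : Type u₆} [Category.{v₆} D₂] [Abelian D₂]
  {Φ : A ⥤ C} [Φ.Additive] {Ψ : B ⥤ D} [Ψ.Additive] {Ω : B₂ ⥤ D₂} [Ω.Additive]
  {E : A ⥤ B} [E.Additive] {G : C ⥤ D} [G.Additive]
  {E₂ : B ⥤ B₂} [E₂.Additive] [PreservesFiniteLimits E₂] [PreservesFiniteColimits E₂]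
  {G₂ : D ⥤ D₂} [G₂.Additive] [PreservesFiniteLimits G₂] [PreservesFiniteColimits G₂]
  {E₃ : A ⥤ B₂} [E₃.Additive] {G₃ : C ⥤ D₂} [G₃.Additive]

theorem exists_hcomp_iff (β₁ : Φ ⋙ G ⟶ E ⋙ Ψ) (β₂ : Ψ ⋙ G₂ ⟶ E₂ ⋙ Ω) (β₃ : Φ ⋙ G₃ ⟶ E₃ ⋙ Ω)
    (g : G₃ ≅ G ⋙ G₂) (e : E₃ ≅ E ⋙ E₂)
    (h : ∀ X, g.hom.app (Φ.obj X) ≫ G₂.map (β₁.app X) ≫ β₂.app (E.obj X) = β₃.app X ≫ Ω.map (e.hom.app X))
    {ι : Type*} (c : ComplexShape ι) (I : HomologicalComplex A c) (J : HomologicalComplex B c)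
    (L : HomologicalComplex B₂ c) (d₁ : (E.mapHomologicalComplex c).obj I ⟶ J)
    (d₂ : (E₂.mapHomologicalComplex c).obj J ⟶ L) [QuasiIso d₁] [QuasiIso d₂]
    (h₂ : QuasiIso (natMapC β₂ c J ≫ (Ω.mapHomologicalComplex c).map d₂)) :
    ∃ d₃ : (E₃.mapHomologicalComplex c).obj I ⟶ L, QuasiIso d₃ ∧
      (QuasiIso ((G₂.mapHomologicalComplex c).map (natMapC β₁ c I ≫ (Ψ.mapHomologicalComplex c).map d₁)) ↔
        QuasiIso (natMapC β₃ c I ≫ (Ω.mapHomologicalComplex c).map d₃)) := by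
  let eI : (E₃.mapHomologicalComplex c).obj I ≅ (E₂.mapHomologicalComplex c).obj ((E.mapHomologicalComplex c).obj I) :=
    HomologicalComplex.Hom.isoOfComponents (fun n => e.app (I.X n))
      (fun i j _ => (e.hom.naturality (I.d i j)).symm)
  let gI : (G₃.mapHomologicalComplex c).obj ((Φ.mapHomologicalComplex c).obj I) ≅
      (G₂.mapHomologicalComplex c).obj ((G.mapHomologicalComplex c).obj ((Φ.mapHomologicalComplex c).obj I)) :=
    HomologicalComplex.Hom.isoOfComponents (fun n => g.app (((Φ.mapHomologicalComplex c).obj I).X n))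
      (fun i j _ => (g.hom.naturality _).symm)
  have hd₁ : QuasiIso ((E₂.mapHomologicalComplex c).map d₁) := quasiIso_map_of_preservesHomology _ E₂
  let d₃ := eI.hom ≫ (E₂.mapHomologicalComplex c).map d₁ ≫ d₂
  refine ⟨d₃, inferInstance, ?_⟩
  have key : gI.hom ≫ (G₂.mapHomologicalComplex c).map (natMapC β₁ c I ≫ (Ψ.mapHomologicalComplex c).map d₁) ≫
      natMapC β₂ c J ≫ (Ω.mapHomologicalComplex c).map d₂ =
      natMapC β₃ c I ≫ (Ω.mapHomologicalComplex c).map d₃ := by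
    ext n
    show g.hom.app _ ≫ G₂.map (β₁.app _ ≫ Ψ.map (d₁.f n)) ≫ β₂.app _ ≫ Ω.map (d₂.f n) =
      β₃.app _ ≫ Ω.map (e.hom.app _ ≫ E₂.map (d₁.f n) ≫ d₂.f n)
    simp only [G₂.map_comp, Ω.map_comp, Category.assoc]
    rw [← reassoc_of% (h (I.X n))]
    exact congrArg (_ ≫ ·) (congrArg (_ ≫ ·) (β₂.naturality_assoc (d₁.f n) _))
  rw [← key]
  constructor
  · intro hm
    infer_instance
  · intro h3
    have : QuasiIso ((G₂.mapHomologicalComplex c).map (natMapC β₁ c I ≫ (Ψ.mapHomologicalComplex c).map d₁) ≫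
        natMapC β₂ c J ≫ (Ω.mapHomologicalComplex c).map d₂) := (quasiIso_iff_comp_left gI.hom _).1 h3
    exact (quasiIso_iff_comp_right _ (natMapC β₂ c J ≫ (Ω.mapHomologicalComplex c).map d₂)).1 this

theorem quasiIso_hcomp (β₁ : Φ ⋙ G ⟶ E ⋙ Ψ) (β₂ : Ψ ⋙ G₂ ⟶ E₂ ⋙ Ω) (β₃ : Φ ⋙ G₃ ⟶ E₃ ⋙ Ω)
    (g : G₃ ≅ G ⋙ G₂) (e : E₃ ≅ E ⋙ E₂)
    (h : ∀ X, g.hom.app (Φ.obj X) ≫ G₂.map (β₁.app X) ≫ β₂.app (E.obj X) = β₃.app X ≫ Ω.map (e.hom.app X))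
    {ι : Type*} (c : ComplexShape ι) (I : HomologicalComplex A c) (J : HomologicalComplex B c)
    (L : HomologicalComplex B₂ c) (d₁ : (E.mapHomologicalComplex c).obj I ⟶ J)
    (d₂ : (E₂.mapHomologicalComplex c).obj J ⟶ L) [QuasiIso d₁] [QuasiIso d₂]
    (h₁ : QuasiIso (natMapC β₁ c I ≫ (Ψ.mapHomologicalComplex c).map d₁))
    (h₂ : QuasiIso (natMapC β₂ c J ≫ (Ω.mapHomologicalComplex c).map d₂)) :
    ∃ d₃ : (E₃.mapHomologicalComplex c).obj I ⟶ L, QuasiIso d₃ ∧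
      QuasiIso (natMapC β₃ c I ≫ (Ω.mapHomologicalComplex c).map d₃) := by
  obtain ⟨d₃, hd₃, hiff⟩ := exists_hcomp_iff β₁ β₂ β₃ g e h c I J L d₁ d₂ h₂
  exact ⟨d₃, hd₃, hiff.1 (quasiIso_map_of_preservesHomology _ G₂)⟩

end Groth.Agent.EtBCA.Der
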