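import Groth.Agent.CohDesc82.Abstract
import Groth.Agent.EtBCA.Der.HComp

/-!
# Independence of the chosen K-injective targets
-/

set_option autoImplicit false
set_option linter.style.haveILetI false
set_option backward.isDefEq.respectTransparency false

universe v₁ v₂ v₃ v₄ v₅ v₆ u₁ u₂ u₃ u₄ u₅ u₆

open CategoryTheory CategoryTheory.Limits HomologicalComplex

attribute [local instance] HasDerivedCategory.standard

noncomputable section

namespace Groth.Agent.EtBCA.Der

variable {A : Type u₁} [Category.{v₁} A] [Abelian A] {B : Type u₂} [Category.{v₂} B] [Abelian B]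

theorem quasiIso_comp_indep (Ψ : B ⥤ A) [Ψ.Additive] {P : CochainComplex B ℤ} {P₀ : CochainComplex A ℤ}
    (m : P₀ ⟶ (Ψ.mapHomologicalComplex _).obj P) {L L' : CochainComplex B ℤ} [L.IsKInjective]
    [L'.IsKInjective] (d : P ⟶ L) (d' : P ⟶ L') [QuasiIso d] [QuasiIso d']
    (h : QuasiIso (m ≫ (Ψ.mapHomologicalComplex _).map d)) :
    QuasiIso (m ≫ (Ψ.mapHomologicalComplex _).map d') := by
  obtain ⟨φ, hφ⟩ := CohDesc82.Q_map_surjective L L' (inv (DerivedCategory.Q.map d) ≫ DerivedCategory.Q.map d')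
  have e : DerivedCategory.Q.map (d ≫ φ) = DerivedCategory.Q.map d' := by
    rw [Functor.map_comp, hφ, IsIso.hom_inv_id_assoc]
  obtain ⟨H⟩ := CohDesc82.homotopic_of_Q_map_eq e
  have hi : IsIso (DerivedCategory.Q.map φ) := by rw [hφ]; infer_instance
  have hq : QuasiIso φ := (DerivedCategory.isIso_Q_map_iff_quasiIso (φ := φ)).1 hi
  obtain ⟨Φ, hΦ⟩ := (CochainComplex.IsKInjective.quasiIso_iff φ).1 hq
  have hΨ : QuasiIso ((Ψ.mapHomologicalComplex (ComplexShape.up ℤ)).map φ) :=
    homotopyEquivalences_le_quasiIso _ _ _ ⟨Ψ.mapHomotopyEquiv Φ, by simp [← hΦ]⟩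
  have h2 : QuasiIso (m ≫ (Ψ.mapHomologicalComplex _).map (d ≫ φ)) := by
    rw [Functor.map_comp, ← Category.assoc]
    infer_instance
  rw [← DerivedCategory.isIso_Q_map_iff_quasiIso] at h2 ⊢
  rwa [← CohDesc82.Q_map_eq_of_homotopy ((Ψ.mapHomotopy H).compLeft m)]

end Groth.Agent.EtBCA.Der
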