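import Groth.Agent.EtBCA.Der.VComp
import Groth.Agent.EtBCA.Der.Indep
import Groth.Agent.EtBCA.BCQ.EtaleLocal

/-!
# The derived base change morphism is an isomorphism etale locally
-/

set_option autoImplicit false
set_option linter.style.haveILetI false

universe u

open CategoryTheory CategoryTheory.Limits AlgebraicGeometry HomologicalComplex

attribute [local instance] HasDerivedCategory.standard

noncomputable section

namespace Groth.Agent.EtBCA.Der

set_option backward.isDefEq.respectTransparency.types false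

attribute [local instance] BCQ.pullAdditive BCQ.pullColimits

local notation "HC" => ComplexShape.up ℤ

theorem isKInjective_pull_etale {U X : Scheme.{u}} (j : U ⟶ X) [AlgebraicGeometry.Etale j]
    (I : CochainComplex (EtCoh.Ab X) ℤ) [I.IsKInjective] :
    CochainComplex.IsKInjective (((EtCoh.pull j).mapHomologicalComplex HC).obj I) := by
  have := EtFound.jCont j
  let adj := (EtShriek.extZeroAdj j).ofNatIsoRight (DualLib.restrPullIso j)
  have := EtFound.extZero_preservesFiniteLimits j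
  have : PreservesColimitsOfSize.{0, 0} (EtShriek.extZero j) := adj.leftAdjoint_preservesColimits
  have : PreservesFiniteColimits (EtShriek.extZero j) := ⟨fun _ => inferInstance⟩
  have := adj.left_adjoint_additive
  exact SiteBase.isKInjective_map adj I

theorem quasiIso_iff_covers {X : Scheme.{u}} {ι : Type u} (U : ι → X.Etale) (hU : EtCoh.Covers U)
    [∀ i, PreservesFiniteLimits (EtCoh.pull (U i).hom)] {K L : CochainComplex (EtCoh.Ab X) ℤ} (φ : K ⟶ L)
    (h : ∀ i, QuasiIso (((EtCoh.pull (U i).hom).mapHomologicalComplex HC).map φ)) : QuasiIso φ := by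
  refine ⟨fun n => (quasiIsoAt_iff_isIso_homologyMap φ n).2 ?_⟩
  refine BCQ.isIso_of_covers U hU _ fun i => ?_
  have := h i
  have hi : IsIso (homologyMap (((EtCoh.pull (U i).hom).mapHomologicalComplex HC).map φ) n) :=
    (quasiIsoAt_iff_isIso_homologyMap _ n).1 ((h i).quasiIsoAt n)
  exact ((MorphismProperty.isomorphisms _).arrow_mk_iso_iff
    (Arrow.isoMk (BCQ.hIso (EtCoh.pull (U i).hom) K n) (BCQ.hIso (EtCoh.pull (U i).hom) L n)
      (BCQ.hIso_natural (EtCoh.pull (U i).hom) φ n).symm)).1 hi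

variable {X S Y T U V Tv Yu : Scheme.{u}} {f : X ⟶ S} {g : T ⟶ S} {h : Y ⟶ X} {e : Y ⟶ T}

theorem quasiIso_natMap_etale (c : IsPullback e h g f) [AlgebraicGeometry.Etale f]
    [PreservesFiniteLimits (EtCoh.pull f)] [PreservesFiniteLimits (EtCoh.pull e)]
    (I : CochainComplex (EtCoh.Ab T) ℤ) :
    QuasiIso (natMapC (BCQ.beta g f h e c.w) HC I ≫ ((EtCoh.push h).mapHomologicalComplex HC).map
      (𝟙 (((EtCoh.pull e).mapHomologicalComplex HC).obj I))) := by
  have : AlgebraicGeometry.Etale e := MorphismProperty.of_isPullback c.flip ‹AlgebraicGeometry.Etale f›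
  have := EtFound.jCont f
  have := EtFound.jCont e
  have : ∀ n, IsIso ((natMapC (BCQ.beta g f h e c.w) HC I).f n) := fun n => by
    show IsIso ((BCQ.beta g f h e c.w).app _)
    rw [BCQ.beta_app]
    exact BCQ.isIso_baseChange0_etale c _
  have : IsIso (natMapC (BCQ.beta g f h e c.w) HC I) := HomologicalComplex.Hom.isIso_of_components _
  rw [CategoryTheory.Functor.map_id, Category.comp_id]
  infer_instance

theorem quasiIso_natMap_congr {W S T Z : Scheme.{u}} {f f' : W ⟶ S} (hf : f = f') {k k' : Z ⟶ T} (hk : k = k')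
    (g : T ⟶ S) (j : Z ⟶ W) (w : k ≫ g = j ≫ f) (w' : k' ≫ g = j ≫ f')
    [PreservesFiniteLimits (EtCoh.pull f)] [PreservesFiniteLimits (EtCoh.pull f')]
    [PreservesFiniteLimits (EtCoh.pull k)] [PreservesFiniteLimits (EtCoh.pull k')]
    (I : CochainComplex (EtCoh.Ab T) ℤ)
    {L L' : CochainComplex (EtCoh.Ab Z) ℤ} [L.IsKInjective] [L'.IsKInjective]
    (d : ((EtCoh.pull k).mapHomologicalComplex HC).obj I ⟶ L)
    (d' : ((EtCoh.pull k').mapHomologicalComplex HC).obj I ⟶ L') [QuasiIso d] [QuasiIso d']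
    (h : QuasiIso (natMapC (BCQ.beta g f j k w) HC I ≫ ((EtCoh.push j).mapHomologicalComplex HC).map d)) :
    QuasiIso (natMapC (BCQ.beta g f' j k' w') HC I ≫ ((EtCoh.push j).mapHomologicalComplex HC).map d') := by
  subst hf hk
  exact quasiIso_comp_indep (EtCoh.push j) _ d d' h

/-- one chart -/
theorem quasiIso_pull_natMap (c : IsPullback e h g f) [PreservesFiniteLimits (EtCoh.pull e)]
    [PreservesFiniteLimits (EtCoh.pull f)] (u₀ : U ⟶ X) [AlgebraicGeometry.Etale u₀]
    [PreservesFiniteLimits (EtCoh.pull u₀)] (v : V ⟶ S) [AlgebraicGeometry.Etale v] (a : U ⟶ V)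
    (ha : a ≫ v = u₀ ≫ f) (gi : Tv ⟶ V) (ti : Tv ⟶ T) (cT : IsPullback ti gi g v) (hi : Yu ⟶ U)
    (ei : Yu ⟶ Tv) (cY : IsPullback ei hi gi a) [PreservesFiniteLimits (EtCoh.pull ei)]
    [PreservesFiniteLimits (EtCoh.pull a)] [PreservesFiniteLimits (EtCoh.pull ti)]
    [DCoh.HasRpushEt Tv gi] [DCoh.HasRpushEt Yu hi] [DCoh.HasRpushEt U a]
    (adji : EtBC.pullD a ⊣ DCoh.RpushEt U a)
    {K : DCoh.DEt T} (I : CochainComplex (EtCoh.Ab T) ℤ) [I.IsKInjective]
    (t : K ≅ DerivedCategory.Qh.obj ((HomotopyCategory.quotient (EtCoh.Ab T) HC).obj I))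
    (J : CochainComplex (EtCoh.Ab Y) ℤ) [J.IsKInjective]
    (d₁ : ((EtCoh.pull e).mapHomologicalComplex HC).obj I ⟶ J) [QuasiIso d₁]
    (hloc : IsIso (EtBC.bcMap gi a hi ei cY.w adji ((EtBC.pullD ti).obj K))) :
    QuasiIso (((EtCoh.pull u₀).mapHomologicalComplex HC).map
      (natMapC (BCQ.beta g f h e c.w) HC I ≫ ((EtCoh.push h).mapHomologicalComplex HC).map d₁)) := by
  have := pullExact v
  have := pullExact (u₀ ≫ f)
  have := pullExact (a ≫ v)
  have := pullExact (ei ≫ ti)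
  have hc : (ei ≫ ti) ≫ g = (hi ≫ u₀) ≫ f := by
    rw [Category.assoc, cT.w, ← Category.assoc, cY.w, Category.assoc, ha, Category.assoc]
  let k := c.lift (ei ≫ ti) (hi ≫ u₀) hc
  have := pullExact k
  have := pullExact (k ≫ e)
  have hke : k ≫ e = ei ≫ ti := c.lift_fst _ _ _
  have hkh : k ≫ h = hi ≫ u₀ := c.lift_snd _ _ _
  have outer : IsPullback (k ≫ e) hi g (u₀ ≫ f) := by
    rw [hke, ← ha]
    exact cY.paste_horiz cT
  have ck : IsPullback k hi h u₀ := IsPullback.of_right outer hkh c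
  have : AlgebraicGeometry.Etale ti := MorphismProperty.of_isPullback cT.flip ‹AlgebraicGeometry.Etale v›
  have : AlgebraicGeometry.Etale k := MorphismProperty.of_isPullback ck.flip ‹AlgebraicGeometry.Etale u₀›
  let I' := ((EtCoh.pull ti).mapHomologicalComplex HC).obj I
  have hI' : CochainComplex.IsKInjective I' := isKInjective_pull_etale ti I
  let t' : (EtBC.pullD ti).obj K ≅ DerivedCategory.Qh.obj ((HomotopyCategory.quotient (EtCoh.Ab Tv) HC).obj I') :=
    (EtBC.pullD ti).mapIso t ≪≫ (EtCoh.pull ti).mapDerivedCategoryFactorsh.app _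
  obtain ⟨L, d₂, hL, hd₂⟩ := hasKInj Yu (((EtCoh.pull ei).mapHomologicalComplex HC).obj I')
  have hs := (isIso_bcMap_iff_quasiIso gi a hi ei cY.w adji I' t' L d₂).1 hloc
  obtain ⟨d₃, hd₃, hq₃⟩ := quasiIso_hcomp (BCQ.beta g v gi ti cT.w) (BCQ.beta gi a hi ei cY.w)
    (BCQ.beta g (a ≫ v) hi (ei ≫ ti) (cY.paste_horiz cT).w) (EtCore.pullComp a v) (EtCore.pullComp ei ti)
    (fun F => by
      rw [BCQ.beta_app, BCQ.beta_app, BCQ.beta_app]
      exact BCQ.baseChange0_hpaste v g gi ti cT.w a hi ei cY.w (cY.paste_horiz cT).w F)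
    HC I I' L (𝟙 I') d₂ (quasiIso_natMap_etale cT I) hs
  let M := ((EtCoh.pull k).mapHomologicalComplex HC).obj J
  have hM : CochainComplex.IsKInjective M := isKInjective_pull_etale k J
  obtain ⟨d₄, hd₄, hiff⟩ := exists_hcomp_iff (BCQ.beta g f h e c.w) (BCQ.beta h u₀ hi k ck.w)
    (BCQ.beta g (u₀ ≫ f) hi (k ≫ e) outer.w) (EtCore.pullComp u₀ f) (EtCore.pullComp k e)
    (fun F => by
      rw [BCQ.beta_app, BCQ.beta_app, BCQ.beta_app]
      exact BCQ.baseChange0_hpaste f g h e c.w u₀ hi k ck.w outer.w F)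
    HC I J M d₁ (𝟙 M) (quasiIso_natMap_etale ck J)
  exact hiff.2 (quasiIso_natMap_congr ha hke.symm g hi (cY.paste_horiz cT).w outer.w I d₃ d₄ hq₃)

end Groth.Agent.EtBCA.Der
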