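import Groth.Agent.EtBCA.Der.Abstract
import Mathlib.Algebra.Homology.DerivedCategory.HomologySequence

/-!
# The cohomology of the derived base change morphism is the base change map of higher derived functors
-/

set_option autoImplicit false
set_option linter.style.haveILetI false
set_option backward.isDefEq.respectTransparency false

universe w₁ w₂ w₃ w₄ v₁ v₂ v₃ v₄ u₁ u₂ u₃ u₄

open CategoryTheory CategoryTheory.Limits HomologicalComplex

noncomputable section

namespace Groth.Agent.EtBCA.Der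

section Arrows

variable {K : Type u₁} [Category.{v₁} K]

theorem arrow_left {a b c : K} (e : a ⟶ b) [IsIso e] (f : b ⟶ c) (g : a ⟶ c) (h : e ≫ f = g) :
    Nonempty (Arrow.mk g ≅ Arrow.mk f) :=
  ⟨Arrow.isoMk (asIso e) (Iso.refl _) (h.trans (Category.comp_id _).symm)⟩

theorem arrow_right {a b c : K} (f : a ⟶ b) (e : b ⟶ c) [IsIso e] (g : a ⟶ c) (h : f ≫ e = g) :
    Nonempty (Arrow.mk f ≅ Arrow.mk g) :=
  ⟨Arrow.isoMk (Iso.refl _) (asIso e) ((Category.id_comp _).trans h.symm)⟩

theorem arrow_sq {a b c d : K} (e : a ⟶ c) [IsIso e] (f : a ⟶ b) (g : c ⟶ d) (e' : b ⟶ d) [IsIso e']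
    (h : f ≫ e' = e ≫ g) : Nonempty (Arrow.mk f ≅ Arrow.mk g) :=
  ⟨Arrow.isoMk (asIso e) (asIso e') h.symm⟩

theorem arrow_trans {x y z : Arrow K} (h₁ : Nonempty (x ≅ y)) (h₂ : Nonempty (y ≅ z)) :
    Nonempty (x ≅ z) :=
  ⟨h₁.some ≪≫ h₂.some⟩

theorem arrow_map {L : Type u₂} [Category.{v₂} L] (F : K ⥤ L) {a b c d : K} {f : a ⟶ b} {g : c ⟶ d}
    (h : Nonempty (Arrow.mk f ≅ Arrow.mk g)) : Nonempty (Arrow.mk (F.map f) ≅ Arrow.mk (F.map g)) :=
  ⟨F.mapArrow.mapIso h.some⟩

end Arrows

variable {A : Type u₁} [Category.{v₁} A] [Abelian A] [HasDerivedCategory.{w₁} A]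
  {B : Type u₂} [Category.{v₂} B] [Abelian B] [HasDerivedCategory.{w₂} B]
  {C : Type u₃} [Category.{v₃} C] [Abelian C] [HasDerivedCategory.{w₃} C]
  {D : Type u₄} [Category.{v₄} D] [Abelian D] [HasDerivedCategory.{w₄} D]
  {Φ : A ⥤ C} [Φ.Additive] {Ψ : B ⥤ D} [Ψ.Additive]
  {E : A ⥤ B} [E.Additive] [PreservesFiniteLimits E] [PreservesFiniteColimits E]
  {G : C ⥤ D} [G.Additive] [PreservesFiniteLimits G] [PreservesFiniteColimits G]
  {U : D ⥤ C} [U.Additive]

local notation "HC" => ComplexShape.up ℤ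

theorem quasiIso_lift {X : A} (R : InjectiveResolution X) (S : InjectiveResolution (E.obj X))
    (d : (E.mapHomologicalComplex _).obj R.cocomplex ⟶ S.cocomplex) (hd : BCQ.IsLift R S d) :
    QuasiIso d := by
  have h : BCQ.mapι E R ≫ d = S.ι := by
    refine HomologicalComplex.from_single_hom_ext ?_
    rw [comp_f, BCQ.mapι_f_zero]
    exact hd
  haveI : QuasiIso (BCQ.mapι E R ≫ d) := h ▸ S.quasiIso
  exact quasiIso_of_comp_left (BCQ.mapι E R) d

/-- the comparison of resolutions in degrees `ℤ` -/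
def liftZ {X : A} (R : InjectiveResolution X) (S : InjectiveResolution (E.obj X))
    (d : (E.mapHomologicalComplex _).obj R.cocomplex ⟶ S.cocomplex) :
    (E.mapHomologicalComplex HC).obj R.cochainComplex ⟶ S.cochainComplex :=
  (TriCat.mapExtendIso E ComplexShape.embeddingUpNat R.cocomplex).hom ≫ extendMap d _

variable {RΦ : DerivedCategory A ⥤ DerivedCategory C}
  (uΦ : Φ.mapHomotopyCategory HC ⋙ DerivedCategory.Qh ⟶ DerivedCategory.Qh ⋙ RΦ)
  {RΨ : DerivedCategory B ⥤ DerivedCategory D}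
  (uΨ : Ψ.mapHomotopyCategory HC ⋙ DerivedCategory.Qh ⟶ DerivedCategory.Qh ⋙ RΨ)
  {RU : DerivedCategory D ⥤ DerivedCategory C}
  (uU : U.mapHomotopyCategory HC ⋙ DerivedCategory.Qh ⟶ DerivedCategory.Qh ⋙ RU)
  [RΦ.IsRightDerivedFunctor uΦ (HomotopyCategory.quasiIso A HC)]
  [RΨ.IsRightDerivedFunctor uΨ (HomotopyCategory.quasiIso B HC)]
  [RU.IsRightDerivedFunctor uU (HomotopyCategory.quasiIso D HC)]
  (adj : G ⊣ U) (pp : Φ ⟶ E ⋙ Ψ ⋙ U) (β : Φ ⋙ G ⟶ E ⋙ Ψ)

/-- on a K-injective complex the derived base change morphism is the termwise map followed by a comparison of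
complexes -/
theorem arrow_bcDer_Qh (hA : HasKInj A) (hB : HasKInj B) (hD : HasKInj D)
    (hβ : ∀ X, (adj.homEquiv _ _).symm (pp.app X) = β.app X)
    (adj' : G.mapDerivedCategory ⊣ RU) (I : CochainComplex A ℤ) [I.IsKInjective]
    (J : CochainComplex B ℤ) [J.IsKInjective] (dZ : (E.mapHomologicalComplex HC).obj I ⟶ J) [QuasiIso dZ] :
    Nonempty (Arrow.mk (bcDer uΦ uΨ uU pp adj'
        (DerivedCategory.Qh.obj ((HomotopyCategory.quotient A HC).obj I))) ≅
      Arrow.mk (DerivedCategory.Q.map (natMapC β HC I ≫ (Ψ.mapHomologicalComplex HC).map dZ))) := by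
  obtain ⟨adj₀, hadj₀⟩ := exists_adj hD adj RU uU
  let qI := (HomotopyCategory.quotient A HC).obj I
  haveI := isIso_unit hA RΦ uΦ I
  haveI := isIso_unit hB RΨ uΨ J
  let qd := (HomotopyCategory.quotient B HC).map dZ
  haveI : IsIso (DerivedCategory.Qh.map qd) := (NatIso.isIso_map_iff (DerivedCategory.quotientCompQhIso B) dZ).2
    ((DerivedCategory.isIso_Q_map_iff_quasiIso (φ := dZ)).2 inferInstance)
  let b := bcDer uΦ uΨ uU pp adj'
  let b₀ := bcDer uΦ uΨ uU pp adj₀
  let m := natMapC β HC I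
  have s2 : Nonempty (Arrow.mk (b (DerivedCategory.Qh.obj qI)) ≅ Arrow.mk (b₀ (DerivedCategory.Qh.obj qI))) :=
    arrow_left ((adj'.leftAdjointUniq adj₀).hom.app _) _ _
      (bcDer_adj uΦ uΨ uU pp adj' adj₀ _).symm
  let M := DerivedCategory.Qh.map ((HomotopyCategory.quotient D HC).map m)
  let v := uΨ.app ((E.mapHomotopyCategory HC).obj qI)
  have s3 : Nonempty (Arrow.mk (b₀ (DerivedCategory.Qh.obj qI)) ≅ Arrow.mk (M ≫ v)) := by
    refine arrow_trans ⟨(arrow_left (G.mapDerivedCategory.map (uΦ.app qI)) _ _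
      (unit_bcDer uΦ uΨ uU adj hadj₀ pp β hβ I)).some.symm⟩ ?_
    refine arrow_trans (arrow_left (G.mapDerivedCategoryFactorsh.hom.app _) _ _ rfl) ?_
    exact ⟨(arrow_right (M ≫ v) (RΨ.map (E.mapDerivedCategoryFactorsh.inv.app qI)) _
      (Category.assoc _ _ _)).some.symm⟩
  let P := DerivedCategory.Qh.map ((Ψ.mapHomotopyCategory HC).map qd)
  have hv : v ≫ RΨ.map (DerivedCategory.Qh.map qd) = P ≫ uΨ.app ((HomotopyCategory.quotient B HC).obj J) :=
    (uΨ.naturality qd).symm
  have s4 : Nonempty (Arrow.mk (M ≫ v) ≅ Arrow.mk (M ≫ P)) := by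
    refine arrow_trans (arrow_right (M ≫ v) (RΨ.map (DerivedCategory.Qh.map qd))
      ((M ≫ P) ≫ uΨ.app ((HomotopyCategory.quotient B HC).obj J))
      ((Category.assoc _ _ _).trans ((congrArg (M ≫ ·) hv).trans (Category.assoc _ _ _).symm))) ?_
    exact ⟨(arrow_right (M ≫ P) _ _ rfl).some.symm⟩
  let z := m ≫ (Ψ.mapHomologicalComplex HC).map dZ
  have s5 : Nonempty (Arrow.mk (M ≫ P) ≅ Arrow.mk (DerivedCategory.Q.map z)) :=
    arrow_sq ((DerivedCategory.quotientCompQhIso D).hom.app _) _ _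
      ((DerivedCategory.quotientCompQhIso D).hom.app _)
      (((congrArg (· ≫ _) ((DerivedCategory.Qh.map_comp _ _).symm.trans (congrArg DerivedCategory.Qh.map
        ((HomotopyCategory.quotient D HC).map_comp m ((Ψ.mapHomologicalComplex HC).map dZ)).symm)))).trans
          ((DerivedCategory.quotientCompQhIso D).hom.naturality z))
  exact arrow_trans s2 (arrow_trans s3 (arrow_trans s4 s5))

/-- on a single object the cohomology of the derived base change morphism is computed on resolutions -/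
theorem arrow_bcDer (hA : HasKInj A) (hB : HasKInj B) (hD : HasKInj D)
    (hβ : ∀ X, (adj.homEquiv _ _).symm (pp.app X) = β.app X)
    (adj' : G.mapDerivedCategory ⊣ RU) {X : A} (R : InjectiveResolution X)
    (S : InjectiveResolution (E.obj X))
    (d : (E.mapHomologicalComplex _).obj R.cocomplex ⟶ S.cocomplex) (hd : BCQ.IsLift R S d) (n : ℤ) :
    Nonempty (Arrow.mk ((DerivedCategory.homologyFunctor D n).map
        (bcDer uΦ uΨ uU pp adj' ((DerivedCategory.singleFunctor A 0).obj X))) ≅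
      Arrow.mk (homologyMap (extendMap (natMapC β (ComplexShape.up ℕ) R.cocomplex ≫
        (Ψ.mapHomologicalComplex _).map d) ComplexShape.embeddingUpNat) n)) := by
  let e := ComplexShape.embeddingUpNat
  let I := R.cochainComplex
  let J := S.cochainComplex
  haveI : I.IsKInjective := CochainComplex.isKInjective_of_injective I 0
  haveI : J.IsKInjective := CochainComplex.isKInjective_of_injective J 0
  let qI := (HomotopyCategory.quotient A HC).obj I
  let t : (DerivedCategory.singleFunctor A 0).obj X ≅ DerivedCategory.Qh.obj qI :=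
    (DerivedCategory.singleFunctorIsoCompQ A 0).app X ≪≫ asIso (DerivedCategory.Q.map R.ι') ≪≫
      ((DerivedCategory.quotientCompQhIso A).app I).symm
  let dZ := liftZ R S d
  haveI := quasiIso_lift R S d hd
  haveI : QuasiIso dZ := quasiIso_comp _ _
  let b := bcDer uΦ uΨ uU pp adj'
  let H := DerivedCategory.homologyFunctor D n
  let m := natMapC β HC I
  let z := m ≫ (Ψ.mapHomologicalComplex HC).map dZ
  have s1 : Nonempty (Arrow.mk (b ((DerivedCategory.singleFunctor A 0).obj X)) ≅ Arrow.mk (b (DerivedCategory.Qh.obj qI))) :=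
    arrow_sq (G.mapDerivedCategory.map (RΦ.map t.hom)) _ _ (RΨ.map (E.mapDerivedCategory.map t.hom))
      (bcDer_natural uΦ uΨ uU pp adj' t.hom).symm
  have s6 : Nonempty (Arrow.mk (H.map (DerivedCategory.Q.map z)) ≅ Arrow.mk (homologyMap z n)) :=
    arrow_sq ((DerivedCategory.homologyFunctorFactors D n).hom.app _) _ _
      ((DerivedCategory.homologyFunctorFactors D n).hom.app _)
      ((DerivedCategory.homologyFunctorFactors D n).hom.naturality z)
  have s7 : Nonempty (Arrow.mk z ≅ Arrow.mk (extendMap (natMapC β (ComplexShape.up ℕ) R.cocomplex ≫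
      (Ψ.mapHomologicalComplex _).map d) e)) := by
    refine arrow_sq ((G.mapHomologicalComplex HC).map (TriCat.mapExtendIso Φ e R.cocomplex).hom ≫
      (TriCat.mapExtendIso G e _).hom) _ _ (TriCat.mapExtendIso Ψ e S.cocomplex).hom ?_
    show (m ≫ (Ψ.mapHomologicalComplex HC).map ((TriCat.mapExtendIso E e R.cocomplex).hom ≫ extendMap d e)) ≫ _ = _
    rw [extendMap_comp, Functor.map_comp, Category.assoc, Category.assoc, Category.assoc,
      TriCat.mapExtendIso_hom_naturality]
    have h := natMapC_extend β e R.cocomplex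
    exact ((congrArg (m ≫ ·) (Category.assoc _ _ _).symm).trans (Category.assoc _ _ _).symm).trans
      ((congrArg (· ≫ _) h).trans ((Category.assoc _ _ _).trans (congrArg (_ ≫ ·) (Category.assoc _ _ _))))
  have s15 := arrow_trans s1 (arrow_bcDer_Qh uΦ uΨ uU adj pp β hA hB hD hβ adj' I J dZ)
  exact arrow_trans (arrow_map H s15) (arrow_trans s6 (arrow_map (HomologicalComplex.homologyFunctor D HC n) s7))

/-- the derived base change morphism is an isomorphism iff the map of complexes is a quasi-isomorphism -/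
theorem isIso_bcDer_iff (hA : HasKInj A) (hB : HasKInj B) (hD : HasKInj D)
    (hβ : ∀ X, (adj.homEquiv _ _).symm (pp.app X) = β.app X)
    (adj' : G.mapDerivedCategory ⊣ RU) {K : DerivedCategory A} (I : CochainComplex A ℤ) [I.IsKInjective]
    (t : K ≅ DerivedCategory.Qh.obj ((HomotopyCategory.quotient A HC).obj I))
    (J : CochainComplex B ℤ) [J.IsKInjective] (dZ : (E.mapHomologicalComplex HC).obj I ⟶ J) [QuasiIso dZ] :
    IsIso (bcDer uΦ uΨ uU pp adj' K) ↔ QuasiIso (natMapC β HC I ≫ (Ψ.mapHomologicalComplex HC).map dZ) := by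
  rw [← DerivedCategory.isIso_Q_map_iff_quasiIso]
  exact (MorphismProperty.isomorphisms (DerivedCategory D)).arrow_mk_iso_iff
    (arrow_trans (arrow_sq (G.mapDerivedCategory.map (RΦ.map t.hom)) _ _
      (RΨ.map (E.mapDerivedCategory.map t.hom)) (bcDer_natural uΦ uΨ uU pp adj' t.hom).symm)
      (arrow_bcDer_Qh uΦ uΨ uU adj pp β hA hB hD hβ adj' I J dZ)).some

end Groth.Agent.EtBCA.Der
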