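import Groth.Agent.TriCat.DerivedOfAdjunction
import Mathlib.Algebra.Homology.DerivedCategory.ExactFunctor
import Mathlib.CategoryTheory.Functor.Derived.Adjunction

/-!
# Derived functors computed by K-injective complexes; derived adjunction for an exact left adjoint
-/

set_option autoImplicit false
set_option linter.style.haveILetI false

universe w₁ w₂ v₁ v₂ u₁ u₂

open CategoryTheory CategoryTheory.Limits

noncomputable section

namespace Groth.Agent.EtBCA.Der

section Htpy

variable {V : Type u₁} [Category.{v₁} V] [Preadditive V] {V' : Type u₂} [Category.{v₂} V']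
  [Preadditive V'] {F : V ⥤ V'} {G : V' ⥤ V} [F.Additive] [G.Additive] {ι : Type*}
  (c : ComplexShape ι)

/-- An adjunction of additive functors passes to homotopy categories. -/
def adjHtpy (adj : F ⊣ G) : F.mapHomotopyCategory c ⊣ G.mapHomotopyCategory c where
  unit :=
    { app := fun K => (HomotopyCategory.quotient V c).map
        { f := fun i => adj.unit.app (K.as.X i)
          comm' := fun i j _ => (adj.unit.naturality (K.as.d i j)).symm }
      naturality := fun K L a => by
        obtain ⟨a, rfl⟩ := (HomotopyCategory.quotient V c).map_surjective a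
        change (HomotopyCategory.quotient V c).map _ ≫ (HomotopyCategory.quotient V c).map _ =
          (HomotopyCategory.quotient V c).map _ ≫ (HomotopyCategory.quotient V c).map _
        rw [← Functor.map_comp, ← Functor.map_comp]
        exact congrArg _ (HomologicalComplex.hom_ext _ _ fun i => adj.unit.naturality (a.f i)) }
  counit :=
    { app := fun K => (HomotopyCategory.quotient V' c).map
        { f := fun i => adj.counit.app (K.as.X i)
          comm' := fun i j _ => (adj.counit.naturality (K.as.d i j)).symm }
      naturality := fun K L a => by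
        obtain ⟨a, rfl⟩ := (HomotopyCategory.quotient V' c).map_surjective a
        change (HomotopyCategory.quotient V' c).map _ ≫ (HomotopyCategory.quotient V' c).map _ =
          (HomotopyCategory.quotient V' c).map _ ≫ (HomotopyCategory.quotient V' c).map _
        rw [← Functor.map_comp, ← Functor.map_comp]
        exact congrArg _ (HomologicalComplex.hom_ext _ _ fun i => adj.counit.naturality (a.f i)) }
  left_triangle_components K := by
    change (HomotopyCategory.quotient V' c).map _ ≫ (HomotopyCategory.quotient V' c).map _ = _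
    rw [← Functor.map_comp]
    exact (congrArg _ (HomologicalComplex.hom_ext _ _ fun i =>
      adj.left_triangle_components (K.as.X i))).trans ((HomotopyCategory.quotient V' c).map_id _)
  right_triangle_components K := by
    change (HomotopyCategory.quotient V c).map _ ≫ (HomotopyCategory.quotient V c).map _ = _
    rw [← Functor.map_comp]
    exact (congrArg _ (HomologicalComplex.hom_ext _ _ fun i =>
      adj.right_triangle_components (K.as.X i))).trans ((HomotopyCategory.quotient V c).map_id _)

end Htpy

section Unit

variable {A : Type u₁} [Category.{v₁} A] [Abelian A] [HasDerivedCategory.{w₁} A]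

/-- `A` has K-injective resolutions -/
def HasKInj (A : Type u₁) [Category.{v₁} A] [Abelian A] : Prop :=
  ∀ K : CochainComplex A ℤ, ∃ (I : CochainComplex A ℤ) (f : K ⟶ I), I.IsKInjective ∧ QuasiIso f

variable {H : Type u₂} [Category.{v₂} H] {F : HomotopyCategory A (ComplexShape.up ℤ) ⥤ H}

/-- The unit of a derived functor is invertible at K-injective complexes. -/
theorem isIso_unit (hA : HasKInj A) (RF : DerivedCategory A ⥤ H) (β : F ⟶ DerivedCategory.Qh ⋙ RF)
    [RF.IsRightDerivedFunctor β (HomotopyCategory.quasiIso A (ComplexShape.up ℤ))]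
    (I : CochainComplex A ℤ) [I.IsKInjective] :
    IsIso (β.app ((HomotopyCategory.quotient A _).obj I)) := by
  haveI := TriCat.qh_isLeftAdjoint_of_exists_resolution hA
  let adjQ := Adjunction.ofIsLeftAdjoint (DerivedCategory.Qh (C := A))
  let W := HomotopyCategory.quasiIso A (ComplexShape.up ℤ)
  haveI := TriCat.isRightDerivedFunctor_of_adjunction adjQ W F
  let e := Functor.rightDerivedUnique ((DerivedCategory.Qh (C := A)).rightAdjoint ⋙ F) RF (Functor.whiskerRight adjQ.unit F) β W
  let qI := (HomotopyCategory.quotient A (ComplexShape.up ℤ)).obj I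
  have h : (Functor.whiskerRight adjQ.unit F).app qI ≫ e.hom.app (DerivedCategory.Qh.obj qI) = β.app qI :=
    (Functor.rightDerivedNatTrans_app ((DerivedCategory.Qh (C := A)).rightAdjoint ⋙ F) RF (Functor.whiskerRight adjQ.unit F) β W (𝟙 F) qI).trans
      (Category.id_comp _)
  haveI : IsIso (adjQ.unit.app qI) := TriCat.isIso_unit_of_isKInjective adjQ I
  haveI : IsIso ((Functor.whiskerRight adjQ.unit F).app qI) := inferInstanceAs (IsIso (F.map _))
  rw [← h]
  exact IsIso.comp_isIso

/-- Derived functors computed by K-injective complexes are absolute. -/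
theorem isRightDerived_comp (hA : HasKInj A) (RF : DerivedCategory A ⥤ H)
    (β : F ⟶ DerivedCategory.Qh ⋙ RF)
    [RF.IsRightDerivedFunctor β (HomotopyCategory.quasiIso A (ComplexShape.up ℤ))]
    {E : Type*} [Category E] (G : H ⥤ E) :
    (RF ⋙ G).IsRightDerivedFunctor (Functor.whiskerRight β G ≫ (Functor.associator _ _ _).hom)
      (HomotopyCategory.quasiIso A (ComplexShape.up ℤ)) := by
  haveI := TriCat.qh_isLeftAdjoint_of_exists_resolution hA
  let adjQ := Adjunction.ofIsLeftAdjoint (DerivedCategory.Qh (C := A))
  let W := HomotopyCategory.quasiIso A (ComplexShape.up ℤ)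
  haveI := TriCat.isRightDerivedFunctor_of_adjunction adjQ W F
  let e := Functor.rightDerivedUnique ((DerivedCategory.Qh (C := A)).rightAdjoint ⋙ F) RF (Functor.whiskerRight adjQ.unit F) β W
  haveI h := TriCat.isRightDerivedFunctor_of_adjunction adjQ W (F ⋙ G)
  refine (Functor.isRightDerivedFunctor_iff_of_iso _ _ W
    ((Functor.associator _ _ _).symm ≪≫ Functor.isoWhiskerRight e G) ?_).1 h
  ext K
  simp only [NatTrans.comp_app, Functor.whiskerLeft_app, Functor.whiskerRight_app, Iso.trans_hom,
    Iso.symm_hom, Functor.associator_inv_app, Functor.isoWhiskerRight_hom,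
    Functor.associator_hom_app, Category.id_comp]
  erw [Category.comp_id]
  refine (G.map_comp _ _).symm.trans ?_
  congr 1
  exact (Functor.rightDerivedNatTrans_app ((DerivedCategory.Qh (C := A)).rightAdjoint ⋙ F) RF (Functor.whiskerRight adjQ.unit F) β W (𝟙 F) K).trans
    (Category.id_comp _)

end Unit

section LeftIso

variable {C D H : Type*} [Category C] [Category D] [Category H]

/-- A functor which lifts `F` along a localization is its left derived functor. -/
theorem isLeftDerived_of_iso (L : C ⥤ D) (W : MorphismProperty C) [L.IsLocalization W] {F : C ⥤ H}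
    (G : D ⥤ H) (α : L ⋙ G ⟶ F) [IsIso α] : G.IsLeftDerivedFunctor α W := by
  haveI := Localization.full_whiskeringLeft L W H
  haveI := Localization.faithful_whiskeringLeft L W H
  let ff := Functor.FullyFaithful.ofFullyFaithful ((Functor.whiskeringLeft C D H).obj L)
  refine ⟨⟨⟨IsTerminal.ofUniqueHom
    (fun E => CostructuredArrow.homMk (ff.preimage (E.hom ≫ (asIso α).inv)) ?_) fun E m => ?_⟩⟩⟩
  · show ((Functor.whiskeringLeft C D H).obj L).map (ff.preimage (E.hom ≫ (asIso α).inv)) ≫ α = E.hom
    rw [ff.map_preimage, Category.assoc]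
    exact (congrArg (E.hom ≫ ·) (asIso α).inv_hom_id).trans (Category.comp_id _)
  · ext1
    apply ff.map_injective
    show _ = ((Functor.whiskeringLeft C D H).obj L).map (ff.preimage (E.hom ≫ (asIso α).inv))
    rw [ff.map_preimage]
    exact (Iso.eq_comp_inv (asIso α)).2 (CostructuredArrow.w m)

end LeftIso

section Adj

variable {C : Type u₁} [Category.{v₁} C] [Abelian C] [HasDerivedCategory.{w₁} C]
  {D : Type u₂} [Category.{v₂} D] [Abelian D] [HasDerivedCategory.{w₂} D]
  {G : C ⥤ D} {U : D ⥤ C} [G.Additive] [U.Additive] [PreservesFiniteLimits G]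
  [PreservesFiniteColimits G]

/-- the derived adjunction of an exact functor with a right adjoint -/
theorem exists_adj (hD : HasKInj D) (adj : G ⊣ U) (RU : DerivedCategory D ⥤ DerivedCategory C)
    (β : U.mapHomotopyCategory (ComplexShape.up ℤ) ⋙ DerivedCategory.Qh ⟶ DerivedCategory.Qh ⋙ RU)
    [RU.IsRightDerivedFunctor β (HomotopyCategory.quasiIso D (ComplexShape.up ℤ))] :
    ∃ adj' : G.mapDerivedCategory ⊣ RU, ∀ K : HomotopyCategory D (ComplexShape.up ℤ),
      G.mapDerivedCategory.map (β.app K) ≫ adj'.counit.app (DerivedCategory.Qh.obj K) =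
        G.mapDerivedCategoryFactorsh.hom.app _ ≫
          DerivedCategory.Qh.map ((adjHtpy (ComplexShape.up ℤ) adj).counit.app K) := by
  let WC := HomotopyCategory.quasiIso C (ComplexShape.up ℤ)
  let WD := HomotopyCategory.quasiIso D (ComplexShape.up ℤ)
  let α := G.mapDerivedCategoryFactorsh.hom
  haveI : G.mapDerivedCategory.IsLeftDerivedFunctor α WC := isLeftDerived_of_iso _ WC _ α
  haveI : (G.mapDerivedCategory ⋙ RU).IsLeftDerivedFunctor
      ((Functor.associator _ _ _).inv ≫ Functor.whiskerRight α RU) WC := isLeftDerived_of_iso _ WC _ _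
  haveI := isRightDerived_comp hD RU β G.mapDerivedCategory
  exact ⟨(adjHtpy (ComplexShape.up ℤ) adj).derived WC WD α β,
    fun K => (adjHtpy (ComplexShape.up ℤ) adj).derivedε_fac_app WD α β K⟩

end Adj

end Groth.Agent.EtBCA.Der
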