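import Groth.Agent.EtBCA.Der.Etale
import Groth.Agent.EtBCA.Der.HComp
import Groth.Agent.EtBCA.BCQ.HPaste

/-!
# The derived base change morphism of a tower of squares
-/

set_option autoImplicit false
set_option linter.style.haveILetI false

universe u

open CategoryTheory CategoryTheory.Limits AlgebraicGeometry

attribute [local instance] HasDerivedCategory.standard

noncomputable section

namespace Groth.Agent.EtBCA.Der

set_option backward.isDefEq.respectTransparency.types false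

attribute [local instance] BCQ.pullAdditive BCQ.pullColimits

theorem exists_kInj_iso {X : Scheme.{u}} (K : DCoh.DEt X) :
    ∃ (I : CochainComplex (EtCoh.Ab X) ℤ), I.IsKInjective ∧
      Nonempty (K ≅ DerivedCategory.Qh.obj ((HomotopyCategory.quotient (EtCoh.Ab X) (ComplexShape.up ℤ)).obj I)) := by
  obtain ⟨I, r, hI, hr⟩ := hasKInj X ((DerivedCategory.Q (C := EtCoh.Ab X)).objPreimage K)
  exact ⟨I, hI, ⟨((DerivedCategory.Q (C := EtCoh.Ab X)).objObjPreimageIso K).symm ≪≫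
    asIso (DerivedCategory.Q.map r) ≪≫ ((DerivedCategory.quotientCompQhIso _).app I).symm⟩⟩

variable {X S Y T W Z : Scheme.{u}} (f : X ⟶ S) (g : T ⟶ S) (h : Y ⟶ X) (e : Y ⟶ T) (w : e ≫ g = h ≫ f)
  (i : W ⟶ X) (j : Z ⟶ W) (k : Z ⟶ Y) (w' : k ≫ h = j ≫ i) (w'' : (k ≫ e) ≫ g = j ≫ i ≫ f)
  [PreservesFiniteLimits (EtCoh.pull f)] [PreservesFiniteLimits (EtCoh.pull i)]
  [PreservesFiniteLimits (EtCoh.pull (i ≫ f))] [PreservesFiniteLimits (EtCoh.pull e)]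
  [PreservesFiniteLimits (EtCoh.pull k)] [PreservesFiniteLimits (EtCoh.pull (k ≫ e))]
  [DCoh.HasRpushEt T g] [DCoh.HasRpushEt Y h] [DCoh.HasRpushEt Z j] [DCoh.HasRpushEt X f]
  [DCoh.HasRpushEt W i] [DCoh.HasRpushEt W (i ≫ f)]

theorem isIso_bcMap_vcomp
    (adj₁ : EtBC.pullD f ⊣ DCoh.RpushEt X f) (adj₂ : EtBC.pullD i ⊣ DCoh.RpushEt W i)
    (adj₃ : EtBC.pullD (i ≫ f) ⊣ DCoh.RpushEt W (i ≫ f)) (K : DCoh.DEt T)
    (h1 : IsIso (EtBC.bcMap g f h e w adj₁ K))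
    (h2 : IsIso (EtBC.bcMap h i j k w' adj₂ ((EtBC.pullD e).obj K))) :
    IsIso (EtBC.bcMap g (i ≫ f) j (k ≫ e) w'' adj₃ K) := by
  obtain ⟨I, hI, ⟨t⟩⟩ := exists_kInj_iso K
  obtain ⟨J, d₁, hJ, hd₁⟩ := hasKInj Y (((EtCoh.pull e).mapHomologicalComplex (ComplexShape.up ℤ)).obj I)
  obtain ⟨L, d₂, hL, hd₂⟩ := hasKInj Z (((EtCoh.pull k).mapHomologicalComplex (ComplexShape.up ℤ)).obj J)
  let qd := (HomotopyCategory.quotient (EtCoh.Ab Y) (ComplexShape.up ℤ)).map d₁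
  haveI hqd : IsIso (DerivedCategory.Qh.map qd) := (NatIso.isIso_map_iff (DerivedCategory.quotientCompQhIso _) d₁).2
    ((DerivedCategory.isIso_Q_map_iff_quasiIso (φ := d₁)).2 inferInstance)
  let t₂ := (EtBC.pullD e).mapIso t ≪≫ (EtCoh.pull e).mapDerivedCategoryFactorsh.app _ ≪≫
    @asIso _ _ _ _ (DerivedCategory.Qh.map qd) hqd
  obtain ⟨d₃, hd₃, hq⟩ := quasiIso_hcomp (BCQ.beta g f h e w) (BCQ.beta h i j k w')
    (BCQ.beta g (i ≫ f) j (k ≫ e) w'') (EtCore.pullComp i f) (EtCore.pullComp k e)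
    (fun F => by
      rw [BCQ.beta_app, BCQ.beta_app, BCQ.beta_app]
      exact BCQ.baseChange0_hpaste f g h e w i j k w' w'' F) (ComplexShape.up ℤ) I J L d₁ d₂
    ((isIso_bcMap_iff_quasiIso g f h e w adj₁ I t J d₁).1 h1)
    ((isIso_bcMap_iff_quasiIso h i j k w' adj₂ J t₂ L d₂).1 h2)
  exact (isIso_bcMap_iff_quasiIso g (i ≫ f) j (k ≫ e) w'' adj₃ I t L d₃).2 hq

end Groth.Agent.EtBCA.Der
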